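import Groth.Agent.LimHom.Descend
import Groth.Agent.FPApproxLib.Colim
import Groth.Agent.DCohLib.FlatPerf
import Groth.Agent.RelTildeLib.Morph
import Groth.Agent.ProjBundleLib.EpiClosed
import Groth.Agent.ExactConstrLib.LocFree

/-! Quotients of finite presentation descend along limits with affine transition maps. -/

set_option autoImplicit false
set_option backward.isDefEq.respectTransparency false
set_option linter.style.haveILetI false

universe u

open CategoryTheory CategoryTheory.Limits AlgebraicGeometry TopologicalSpace Opposite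
open Groth.Agent.PullbackMod

noncomputable section

namespace Groth.Agent.LimHom

variable {S X : Scheme.{u}}

theorem isFT_kernel {P G : X.Modules} (π : P ⟶ G) [Epi π] [Coh.IsQCoh P] [Coh.IsQCoh G]
    (hP : CohB1.IsFP P) (hG : CohB1.IsFP G) : CohB1.IsFT (kernel π) := by
  haveI hK : Coh.IsQCoh (kernel π) := (QCohLib.isQCoh_image π inferInstance inferInstance).1
  refine QCohLib.isFiniteType_of_finite _ (fun W : X.affineOpens => (W : X.Opens))
    (fun W => W.2) (iSup_affineOpens_eq_top _) fun W => ?_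
  haveI := QCohLib.finite_sections P (ExactConstrLib.isFT_of_isFP hP) W.2
  haveI := QCohLib.finitePresentation_sections G hG W.2
  let p := FlatLocus.appL π (W : X.Opens)
  have hp : Function.Surjective p := ProjBundleLib.surjective_app_of_epi inferInstance inferInstance π W.2
  haveI : Module.Finite Γ(X, (W : X.Opens)) (LinearMap.ker p) :=
    Module.Finite.iff_fg.mpr (Module.FinitePresentation.fg_ker p hp)
  let i := FlatLocus.appL (kernel.ι π) (W : X.Opens)
  have hi : Function.Injective i := RelTildeLib.app_injective_of_mono (kernel.ι π) _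
  have hr : LinearMap.range i = LinearMap.ker p := by
    apply le_antisymm
    · rintro _ ⟨m, rfl⟩
      show (kernel.ι π ≫ π).app (W : X.Opens) m = 0
      rw [kernel.condition]
      rfl
    · intro n hn
      exact QCohLib.kernel_app_exact π _ n hn
  exact Module.Finite.equiv ((LinearEquiv.ofEq _ _ hr).symm ≪≫ₗ (LinearEquiv.ofInjective i hi).symm)

/-- Along an affine morphism to a qcqs scheme a module of finite type is a quotient of the inverse image
of a module of finite presentation. -/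
theorem exists_fp_pullback_epi (f : X ⟶ S) [IsAffineHom f] [CompactSpace S] [QuasiSeparatedSpace S]
    (K : X.Modules) [Coh.IsQCoh K] (hK : CohB1.IsFT K) :
    ∃ (H : S.Modules) (φ : (Scheme.Modules.pullback f).obj H ⟶ K),
      Coh.IsQCoh H ∧ CohB1.IsFP H ∧ Epi φ := by
  classical
  obtain ⟨t, ht⟩ := isCompact_univ.elim_finite_subcover
    (fun W : S.affineOpens => ((W : S.Opens) : Set S)) (fun W => W.1.isOpen) fun y _ => by
      obtain ⟨_, ⟨W, hW, rfl⟩, hy, -⟩ :=
        S.isBasis_affineOpens.exists_subset_of_mem_open (Set.mem_univ y) isOpen_univ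
      exact Set.mem_iUnion.mpr ⟨⟨W, hW⟩, hy⟩
  have hT : ∀ W : S.affineOpens, IsAffineOpen (f ⁻¹ᵁ W.1) := fun W => W.2.preimage f
  choose T hTs using fun W : S.affineOpens =>
    ((QCohLib.finite_sections K hK (hT W)).fg_top :
      (⊤ : Submodule Γ(X, f ⁻¹ᵁ W.1) Γ(K, f ⁻¹ᵁ W.1)).FG)
  haveI := QCohLib.isQCoh_pushforward K f
  obtain ⟨H, ψ, hH, hfp, hit⟩ := FPApproxLib.exists_fp_through ((Scheme.Modules.pushforward f).obj K)
    (ι := Σ W : t, {s // s ∈ T W.1}) (fun k => k.1.1.1) (fun k => k.1.1.2) (fun k => k.2.1)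
  let φ := ((Scheme.Modules.pullbackPushforwardAdjunction f).homEquiv H K).symm ψ
  have hψ : (Scheme.Modules.pullbackPushforwardAdjunction f).unit.app H ≫
      (Scheme.Modules.pushforward f).map φ = ψ :=
    ((Scheme.Modules.pullbackPushforwardAdjunction f).homEquiv_unit H K φ).symm.trans
      (Equiv.apply_symm_apply _ _)
  haveI := hH
  refine ⟨H, φ, hH, hfp, ⟨fun {Z} g₁ g₂ e => FPApproxLib.hom_ext_opens g₁ g₂ t
    (fun W => f ⁻¹ᵁ W.1.1) (fun W => hT W.1) (eq_top_iff.mpr fun x _ => ?_) fun W x => ?_⟩⟩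
  · obtain ⟨W, hW, hx⟩ := Set.mem_iUnion₂.mp (ht (Set.mem_univ (f x)))
    exact Opens.mem_iSup.mpr ⟨⟨W, hW⟩, hx⟩
  have hx : x ∈ Submodule.span Γ(X, f ⁻¹ᵁ W.1.1) (T W.1 : Set Γ(K, f ⁻¹ᵁ W.1.1)) :=
    hTs W.1 ▸ Submodule.mem_top
  induction hx using Submodule.span_induction with
  | mem x hx =>
    obtain ⟨y, hy⟩ := hit ⟨W, x, hx⟩
    rw [← hψ] at hy
    change φ.app (f ⁻¹ᵁ W.1.1)
      (((Scheme.Modules.pullbackPushforwardAdjunction f).unit.app H).app W.1.1 y) = x at hy
    rw [← hy]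
    exact congrArg (fun χ : (Scheme.Modules.pullback f).obj H ⟶ Z => χ.app (f ⁻¹ᵁ W.1.1)
      (((Scheme.Modules.pullbackPushforwardAdjunction f).unit.app H).app W.1.1 y)) e
  | zero => rw [map_zero, map_zero]
  | add a b _ _ ha hb => rw [map_add, map_add, ha, hb]
  | smul r a _ ha => rw [Scheme.Modules.Hom.app_smul, Scheme.Modules.Hom.app_smul, ha]

variable {I : Type u} [SmallCategory I] [IsCofiltered I] (D : I ⥤ Scheme.{u}) (c : Cone D) (hc : IsLimit c)
  [hD : ∀ {i j : I} (f : i ⟶ j), IsAffineHom (D.map f)] (i₀ : I) [CompactSpace (D.obj i₀)]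
  [QuasiSeparatedSpace (D.obj i₀)]

include hc in
theorem exists_stage_quotient (F₀ : (D.obj i₀).Modules) [Coh.IsQCoh F₀] (hF₀ : CohB1.IsFP F₀)
    {G : c.pt.Modules} [Coh.IsQCoh G] (hG : CohB1.IsFP G)
    (p : (Scheme.Modules.pullback (pr c i₀)).obj F₀ ⟶ G) [Epi p] :
    ∃ (j : I) (φ : j ⟶ i₀) (Gj : (D.obj j).Modules) (_ : Coh.IsQCoh Gj)
      (pj : (Scheme.Modules.pullback (D.map φ)).obj F₀ ⟶ Gj)
      (e : (Scheme.Modules.pullback (pr c j)).obj Gj ≅ G),
      CohB1.IsFP Gj ∧ Epi pj ∧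
        (FpqcQCoh.cmpIso F₀ (pr c j) (pr_w c φ)).inv ≫
          (Scheme.Modules.pullback (pr c j)).map pj ≫ e.hom = p := by
  haveI : IsAffineHom (pr c i₀) := isAffineHom_π_app D c hc i₀
  haveI := PullbackMod.isQCoh_pullback (pr c i₀) F₀
  have hF := PullbackMod.isFP_pullback (pr c i₀) F₀ hF₀
  haveI hKq : Coh.IsQCoh (kernel p) := (QCohLib.isQCoh_image p inferInstance inferInstance).1
  obtain ⟨H, a, hH, hHfp, ha⟩ :=
    exists_fp_pullback_epi (pr c i₀) (kernel p) (isFT_kernel p hF hG)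
  haveI := hH
  haveI := ha
  obtain ⟨j, φ, hj, hj'⟩ := exists_stage_hom D c hc i₀ (F₀ := H) (G₀ := F₀) hHfp (a ≫ kernel.ι p)
  haveI := PullbackMod.isQCoh_pullback (D.map φ) H
  haveI := PullbackMod.isQCoh_pullback (D.map φ) F₀
  let α := FpqcQCoh.cmpIso F₀ (pr c j) (pr_w c φ)
  let β := FpqcQCoh.cmpIso H (pr c j) (pr_w c φ)
  haveI : (Scheme.Modules.pullback (pr c j)).IsLeftAdjoint :=
    (Scheme.Modules.pullbackPushforwardAdjunction (pr c j)).isLeftAdjoint
  -- `p` is a cokernel of the descended relation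
  have hp : IsColimit (CokernelCofork.ofπ (f := a ≫ kernel.ι p) p
      (by rw [Category.assoc, kernel.condition, comp_zero])) :=
    isCokernelEpiComp (Abelian.epiIsCokernelOfKernel (KernelFork.ofι (kernel.ι p) (kernel.condition p))
      (kernelIsKernel p)) a rfl
  let d := (Scheme.Modules.pullback (pr c j)).map hj
  have hd : a ≫ kernel.ι p = β.inv ≫ d ≫ α.hom := hj'.symm
  have w : d ≫ α.hom ≫ p = 0 := by
    have h0 : (a ≫ kernel.ι p) ≫ p = 0 := by rw [Category.assoc, kernel.condition, comp_zero]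
    rw [hd] at h0
    simpa only [Category.assoc, Preadditive.IsIso.comp_left_eq_zero] using h0
  let e₁ : cokernel d ≅ G :=
    (cokernel.mapIso d (a ≫ kernel.ι p) β α (by rw [hd, Iso.hom_inv_id_assoc])) ≪≫
      (cokernelIsCokernel _).coconePointUniqueUpToIso hp
  let e : (Scheme.Modules.pullback (pr c j)).obj (cokernel hj) ≅ G :=
    PreservesCokernel.iso (Scheme.Modules.pullback (pr c j)) hj ≪≫ e₁
  refine ⟨j, φ, cokernel hj, (QCohLib.isQCoh_image hj inferInstance inferInstance).2, cokernel.π hj, e,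
    DCohLib.isFP_cokernel hj inferInstance inferInstance
      (ExactConstrLib.isFT_of_isFP (PullbackMod.isFP_pullback (D.map φ) H hHfp))
      (PullbackMod.isFP_pullback (D.map φ) F₀ hF₀), inferInstance, ?_⟩
  show α.inv ≫ (Scheme.Modules.pullback (pr c j)).map (cokernel.π hj) ≫ e.hom = p
  have h1 : (Scheme.Modules.pullback (pr c j)).map (cokernel.π hj) ≫
      (PreservesCokernel.iso (Scheme.Modules.pullback (pr c j)) hj).hom = cokernel.π d := by
    rw [← Iso.eq_comp_inv, PreservesCokernel.iso_inv, π_comp_cokernelComparison]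
  rw [show e.hom = (PreservesCokernel.iso (Scheme.Modules.pullback (pr c j)) hj).hom ≫ e₁.hom from rfl,
    ← Category.assoc ((Scheme.Modules.pullback (pr c j)).map (cokernel.π hj)), h1, ← cancel_epi α.hom,
    Iso.hom_inv_id_assoc]
  show cokernel.π d ≫ (cokernel.mapIso d (a ≫ kernel.ι p) β α (by rw [hd, Iso.hom_inv_id_assoc])).hom ≫
    ((cokernelIsCokernel _).coconePointUniqueUpToIso hp).hom = α.hom ≫ p
  rw [cokernel.mapIso_hom, cokernel.π_desc_assoc]
  refine (Category.assoc _ _ _).trans ?_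
  exact congrArg (α.hom ≫ ·) ((cokernelIsCokernel (a ≫ kernel.ι p)).comp_coconePointUniqueUpToIso_hom hp
    WalkingParallelPair.one)

include hc in
theorem exists_stage_module (F : c.pt.Modules) [Coh.IsQCoh F] (hF : CohB1.IsFP F) :
    ∃ (j : I) (_ : j ⟶ i₀) (Fj : (D.obj j).Modules), Coh.IsQCoh Fj ∧ CohB1.IsFP Fj ∧
      Nonempty ((Scheme.Modules.pullback (pr c j)).obj Fj ≅ F) := by
  haveI : IsAffineHom (pr c i₀) := isAffineHom_π_app D c hc i₀
  obtain ⟨P, a, hP, hPfp, ha⟩ := exists_fp_pullback_epi (pr c i₀) F (ExactConstrLib.isFT_of_isFP hF)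
  haveI := hP
  haveI := ha
  obtain ⟨j, φ, Fj, h1, pj, e, h2, -, -⟩ := exists_stage_quotient D c hc i₀ P hPfp hF a
  exact ⟨j, φ, Fj, h1, h2, ⟨e⟩⟩

end Groth.Agent.LimHom
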