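import Groth.Agent.LimHom.Hom
import Groth.Agent.FpqcQCoh.FamilyHom
import Groth.Agent.PullbackMod.LimEventually

/-!
# Morphisms of inverse images on a limit come from a stage
-/

set_option autoImplicit false
set_option backward.isDefEq.respectTransparency false
set_option backward.defeqAttrib.useBackward true
set_option linter.style.haveILetI false

universe u

open CategoryTheory CategoryTheory.Limits AlgebraicGeometry TopologicalSpace Opposite
open Groth.Agent.PullbackMod Groth.Agent.CohBase Groth.Agent.FpqcQCoh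

noncomputable section

namespace Groth.Agent.LimHom

variable {S X T : Scheme.{u}} {F G : S.Modules} {f : X ⟶ S} (t : T ⟶ X) {h : T ⟶ S} (e : t ≫ f = h)

/-- A morphism of inverse images transported along `t`. -/
abbrev ov (b : (Scheme.Modules.pullback f).obj F ⟶ (Scheme.Modules.pullback f).obj G) :
    (Scheme.Modules.pullback h).obj F ⟶ (Scheme.Modules.pullback h).obj G :=
  (cmpIso F t e).inv ≫ (Scheme.Modules.pullback t).map b ≫ (cmpIso G t e).hom

theorem uMap_natural (b : (Scheme.Modules.pullback f).obj F ⟶ (Scheme.Modules.pullback f).obj G) :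
    (Scheme.Modules.pushforward f).map b ≫ uMap G f t e =
      uMap F f t e ≫ (Scheme.Modules.pushforward h).map (ov t e b) := by
  subst e
  ext W m
  have hv := ConcreteCategory.congr_hom (congrArg
    (fun τ : (Scheme.Modules.pullback f).obj F ⟶ _ => τ.app (f ⁻¹ᵁ W))
    (vMap_overlap (f := fun _ : PUnit.{u + 1} => f) (fun _ => b) (i := PUnit.unit) t rfl)) m
  show (uMap G f t rfl).app W (b.app (f ⁻¹ᵁ W) m) =
    (ov t rfl b).app (t ⁻¹ᵁ f ⁻¹ᵁ W) ((uMap F f t rfl).app W m)
  rw [show (uMap G f t rfl).app W (b.app (f ⁻¹ᵁ W) m) = (vMap G t rfl).app (f ⁻¹ᵁ W) (b.app (f ⁻¹ᵁ W) m) from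
      restr_self _ le_rfl _,
    show (uMap F f t rfl).app W m = (vMap F t rfl).app (f ⁻¹ᵁ W) m from restr_self _ le_rfl _]
  exact hv

theorem transpose_uMap (a : F ⟶ (Scheme.Modules.pushforward f).obj ((Scheme.Modules.pullback f).obj G)) :
    (Scheme.Modules.pullbackPushforwardAdjunction h).homEquiv _ _
        (ov t e (((Scheme.Modules.pullbackPushforwardAdjunction f).homEquiv _ _).symm a)) =
      a ≫ uMap G f t e := by
  obtain ⟨b, rfl⟩ := ((Scheme.Modules.pullbackPushforwardAdjunction f).homEquiv _ _).surjective a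
  rw [Equiv.symm_apply_apply, Adjunction.homEquiv_unit, Adjunction.homEquiv_unit, Category.assoc,
    uMap_natural t e b, ← Category.assoc, unit_uMap]

variable {I : Type u} [SmallCategory I] [IsCofiltered I] (D : I ⥤ Scheme.{u}) (c : Cone D) (hc : IsLimit c)
  [hD : ∀ {i j : I} (f : i ⟶ j), IsAffineHom (D.map f)] (i₀ : I) [CompactSpace (D.obj i₀)]
  [QuasiSeparatedSpace (D.obj i₀)] {F₀ G₀ : (D.obj i₀).Modules} [Coh.IsQCoh F₀] [Coh.IsQCoh G₀]

include hc in
theorem exists_stage_hom (hF₀ : CohB1.IsFP F₀)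
    (h : (Scheme.Modules.pullback (pr c i₀)).obj F₀ ⟶ (Scheme.Modules.pullback (pr c i₀)).obj G₀) :
    ∃ (j : I) (φ : j ⟶ i₀)
      (hj : (Scheme.Modules.pullback (D.map φ)).obj F₀ ⟶ (Scheme.Modules.pullback (D.map φ)).obj G₀),
      ov (pr c j) (pr_w c φ) hj = h := by
  obtain ⟨j, a, ha⟩ := exists_hom_stage D c hc i₀ G₀ F₀
    ((Scheme.Modules.pullbackPushforwardAdjunction (pr c i₀)).homEquiv _ _ h) hF₀
  refine ⟨j.left, j.hom, ((Scheme.Modules.pullbackPushforwardAdjunction (D.map j.hom)).homEquiv _ _).symm a,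
    ((Scheme.Modules.pullbackPushforwardAdjunction (pr c i₀)).homEquiv _ _).injective ?_⟩
  rw [transpose_uMap]
  exact ha

end Groth.Agent.LimHom
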