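import Groth.Agent.PullbackMod.Sections
import Groth.Agent.QCohLib.Exact

/-!
# Sections of a quasi-coherent module over a smaller affine open are a base change
-/

set_option autoImplicit false
set_option backward.isDefEq.respectTransparency false
set_option backward.defeqAttrib.useBackward true
set_option linter.style.haveILetI false

universe u

open CategoryTheory CategoryTheory.Limits AlgebraicGeometry TopologicalSpace Opposite
open Groth.Agent.PullbackMod Groth.Agent.CohBase

noncomputable section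

namespace Groth.Agent.LimHom

variable {X : Scheme.{u}} (F : X.Modules)

/-- The comparison of the inverse image along the identity. -/
def idCmp : (Scheme.Modules.pullback (𝟙 X)).obj F ⟶ F :=
  ((Scheme.Modules.pullbackPushforwardAdjunction (𝟙 X)).homEquiv _ _).symm
    ((Scheme.Modules.pushforwardId X).inv.app F)

instance : IsIso (idCmp F) := by
  haveI : (Scheme.Modules.pushforward (𝟙 X)).Full :=
    Functor.Full.of_iso (Scheme.Modules.pushforwardId X).symm
  haveI : (Scheme.Modules.pushforward (𝟙 X)).Faithful :=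
    Functor.Faithful.of_iso (Scheme.Modules.pushforwardId X).symm
  rw [idCmp, Adjunction.homEquiv_counit]
  infer_instance

theorem idCmp_pullMap {W V : X.Opens} (h : V ≤ W) (m : Γ(F, W)) :
    (idCmp F).app V (pullMap (𝟙 X) F (W' := V) h m) = F.presheaf.map (homOfLE h).op m := by
  have e : (Scheme.Modules.pullbackPushforwardAdjunction (𝟙 X)).unit.app F ≫
      (Scheme.Modules.pushforward (𝟙 X)).map (idCmp F) = (Scheme.Modules.pushforwardId X).inv.app F :=
    (Adjunction.homEquiv_unit _ _ _ _).symm.trans (Equiv.apply_symm_apply _ _)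
  refine (QCohLib.app_res (idCmp F) h _).trans (congrArg _ ?_)
  exact ConcreteCategory.congr_hom (congrArg (fun φ : F ⟶ _ => φ.app W) e) m

variable [Coh.IsQCoh F] {W V : X.Opens} (hW : IsAffineOpen W) (hV : IsAffineOpen V) (h : V ≤ W)
  {Q : Type u} [AddCommGroup Q] [Module Γ(X, V) Q]

include hW hV

set_option maxHeartbeats 400000 in
/-- A semilinear map out of the sections extends. -/
theorem exists_res_lift (l : Γ(F, W) →+ Q)
    (hl : ∀ (a : Γ(X, W)) m, l (a • m) = X.presheaf.map (homOfLE h).op a • l m) :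
    ∃ α : Γ(F, V) →ₗ[Γ(X, V)] Q, ∀ m, α (F.presheaf.map (homOfLE h).op m) = l m := by
  letI : Algebra Γ(X, W) Γ(X, V) := ((𝟙 X : X ⟶ X).appLE W V h).hom.toAlgebra
  letI := Module.compHom Γ((Scheme.Modules.pullback (𝟙 X)).obj F, V) ((𝟙 X : X ⟶ X).appLE W V h).hom
  haveI : IsScalarTower Γ(X, W) Γ(X, V) Γ((Scheme.Modules.pullback (𝟙 X)).obj F, V) :=
    .of_algebraMap_smul fun _ _ => rfl
  letI : Module Γ(X, W) Q := Module.compHom Q ((𝟙 X : X ⟶ X).appLE W V h).hom
  haveI : IsScalarTower Γ(X, W) Γ(X, V) Q := .of_algebraMap_smul fun _ _ => rfl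
  have hbc : IsBaseChange Γ(X, V) (pullMapL (𝟙 X) F (W' := V) h) := isBaseChange_pullMapL (𝟙 X) F hW hV h
  let l' : Γ(F, W) →ₗ[Γ(X, W)] Q :=
    { l with
      map_smul' := fun a m => by
        show l (a • m) = (𝟙 X : X ⟶ X).appLE W V h a • l m
        rw [hl]
        simp [Scheme.Hom.appLE] }
  let e : Γ(F, V) →ₗ[Γ(X, V)] Γ((Scheme.Modules.pullback (𝟙 X)).obj F, V) :=
    { toFun := (inv (idCmp F)).app V
      map_add' := fun x y => map_add _ x y
      map_smul' := fun a x => Scheme.Modules.Hom.app_smul (inv (idCmp F)) a x }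
  refine ⟨(hbc.lift l').comp e, fun m => ?_⟩
  have he : e (F.presheaf.map (homOfLE h).op m) = pullMap (𝟙 X) F (W' := V) h m := by
    rw [← idCmp_pullMap F h m]
    exact ConcreteCategory.congr_hom (congrArg
      (fun φ : (Scheme.Modules.pullback (𝟙 X)).obj F ⟶ _ => φ.app V) (IsIso.hom_inv_id (idCmp F))) _
  rw [LinearMap.comp_apply, he]
  exact hbc.lift_eq l' m

/-- Linear maps out of the sections agree if they agree on restrictions. -/
theorem res_ext {α β : Γ(F, V) →ₗ[Γ(X, V)] Q}
    (hαβ : ∀ m : Γ(F, W), α (F.presheaf.map (homOfLE h).op m) = β (F.presheaf.map (homOfLE h).op m)) : α = β := by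
  letI : Algebra Γ(X, W) Γ(X, V) := ((𝟙 X : X ⟶ X).appLE W V h).hom.toAlgebra
  letI := Module.compHom Γ((Scheme.Modules.pullback (𝟙 X)).obj F, V) ((𝟙 X : X ⟶ X).appLE W V h).hom
  haveI : IsScalarTower Γ(X, W) Γ(X, V) Γ((Scheme.Modules.pullback (𝟙 X)).obj F, V) :=
    .of_algebraMap_smul fun _ _ => rfl
  have hbc : IsBaseChange Γ(X, V) (pullMapL (𝟙 X) F (W' := V) h) := isBaseChange_pullMapL (𝟙 X) F hW hV h
  let e : Γ((Scheme.Modules.pullback (𝟙 X)).obj F, V) →ₗ[Γ(X, V)] Γ(F, V) :=
    { toFun := (idCmp F).app V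
      map_add' := fun x y => map_add _ x y
      map_smul' := fun a x => Scheme.Modules.Hom.app_smul (idCmp F) a x }
  have hb : Function.Bijective e := (ConcreteCategory.isIso_iff_bijective _).1
    (inferInstance : IsIso ((idCmp F).app V))
  have h2 : α.comp e = β.comp e := hbc.algHom_ext _ _ fun m => by
    show α ((idCmp F).app V (pullMap (𝟙 X) F h m)) = β ((idCmp F).app V (pullMap (𝟙 X) F h m))
    rw [idCmp_pullMap]
    exact hαβ m
  refine LinearMap.ext fun x => ?_
  obtain ⟨y, rfl⟩ := hb.2 x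
  exact LinearMap.congr_fun h2 y

end Groth.Agent.LimHom
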