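import Groth.Agent.LimHom.Stages
import Groth.Agent.LimHom.Restr
import Groth.Agent.QCohLib.FPSections
import Groth.Agent.ProjBundleLib.Exist

/-!
# Morphisms out of finitely presented modules on a limit come from a stage
-/

set_option autoImplicit false
set_option backward.isDefEq.respectTransparency false
set_option backward.defeqAttrib.useBackward true
set_option linter.style.haveILetI false

universe u

open CategoryTheory CategoryTheory.Limits AlgebraicGeometry TopologicalSpace Opposite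
open Groth.Agent.PullbackMod Groth.Agent.CohBase

noncomputable section

namespace Groth.Agent.LimHom

section glue

variable {X : Scheme.{u}} (F N : X.Modules) [Coh.IsQCoh F]

/-- A map of sections extends to a smaller affine open. -/
def ext {W : X.Opens} (hW : IsAffineOpen W) (L : Γ(F, W) →ₗ[Γ(X, W)] Γ(N, W)) {V : X.Opens}
    (hV : IsAffineOpen V) (h : V ≤ W) : Γ(F, V) →ₗ[Γ(X, V)] Γ(N, V) :=
  (exists_res_lift F hW hV h ((N.presheaf.map (homOfLE h).op).hom.comp L.toAddMonoidHom) (fun a m => by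
    show N.presheaf.map (homOfLE h).op (L (a • m)) = _
    rw [L.map_smul]
    exact Scheme.Modules.map_smul N (homOfLE h) a (L m))).choose

theorem ext_res {W : X.Opens} (hW : IsAffineOpen W) (L : Γ(F, W) →ₗ[Γ(X, W)] Γ(N, W)) {V : X.Opens}
    (hV : IsAffineOpen V) (h : V ≤ W) (m : Γ(F, W)) :
    ext F N hW L hV h (F.presheaf.map (homOfLE h).op m) = N.presheaf.map (homOfLE h).op (L m) :=
  (exists_res_lift F hW hV h ((N.presheaf.map (homOfLE h).op).hom.comp L.toAddMonoidHom) (fun a m => by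
    show N.presheaf.map (homOfLE h).op (L (a • m)) = _
    rw [L.map_smul]
    exact Scheme.Modules.map_smul N (homOfLE h) a (L m))).choose_spec m

theorem ext_trans {W : X.Opens} (hW : IsAffineOpen W) (L : Γ(F, W) →ₗ[Γ(X, W)] Γ(N, W)) {V V' : X.Opens}
    (hV : IsAffineOpen V) (hV' : IsAffineOpen V') (h : V ≤ W) (h' : V' ≤ V) :
    ext F N hV (ext F N hW L hV h) hV' h' = ext F N hW L hV' (h'.trans h) :=
  res_ext F hW hV' (h'.trans h) fun m => by
    rw [ext_res, ← restr_trans F h h', ext_res, ext_res, restr_trans]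

theorem res_ext_apply {W : X.Opens} (hW : IsAffineOpen W) (L : Γ(F, W) →ₗ[Γ(X, W)] Γ(N, W)) {V V' : X.Opens}
    (hV : IsAffineOpen V) (hV' : IsAffineOpen V') (h : V ≤ W) (h' : V' ≤ V) (m : Γ(F, V)) :
    N.presheaf.map (homOfLE h').op (ext F N hW L hV h m) =
      ext F N hW L hV' (h'.trans h) (F.presheaf.map (homOfLE h').op m) := by
  rw [← ext_trans F N hW L hV hV' h h', ext_res]

/-- Maps on the members of an affine cover agreeing on the overlaps define a morphism. -/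
theorem exists_hom_of_cover {κ : Type*} (W : κ → X.Opens) (hW : ∀ a, IsAffineOpen (W a)) (hcov : ⨆ a, W a = ⊤)
    (L : ∀ a, Γ(F, W a) →ₗ[Γ(X, W a)] Γ(N, W a))
    (hagree : ∀ a b (V : X.Opens) (hV : IsAffineOpen V) (ha : V ≤ W a) (hb : V ≤ W b),
      ext F N (hW a) (L a) hV ha = ext F N (hW b) (L b) hV hb) :
    ∃ φ : F ⟶ N, ∀ a m, φ.app (W a) m = L a m := by
  let F' : TopCat.Sheaf Ab.{u} X.carrier := ⟨N.presheaf, N.isSheaf⟩
  have hex : ∀ (U : X.Opens), IsAffineOpen U → ∀ m : Γ(F, U), ∃! n : Γ(N, U),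
      ∀ p : {p : κ × X.Opens // IsAffineOpen p.2 ∧ p.2 ≤ U ∧ p.2 ≤ W p.1},
        N.presheaf.map (homOfLE p.2.2.1).op n =
          ext F N (hW p.1.1) (L p.1.1) p.2.1 p.2.2.2 (F.presheaf.map (homOfLE p.2.2.1).op m) := fun U hU m => by
    let J := {p : κ × X.Opens // IsAffineOpen p.2 ∧ p.2 ≤ U ∧ p.2 ≤ W p.1}
    have hc : U ≤ ⨆ p : J, p.1.2 := fun x hx => by
      obtain ⟨a, ha⟩ := Opens.mem_iSup.1 (hcov.ge (Opens.mem_top x))
      obtain ⟨_, ⟨V, hV, rfl⟩, hxV, hVle⟩ :=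
        X.isBasis_affineOpens.exists_subset_of_mem_open (a := x) (u := ↑(U ⊓ W a)) ⟨hx, ha⟩ (U ⊓ W a).2
      exact Opens.mem_iSup.2 ⟨⟨(a, V), hV, fun y hy => (hVle hy).1, fun y hy => (hVle hy).2⟩, hxV⟩
    obtain ⟨n, hn, huniq⟩ := TopCat.Sheaf.existsUnique_gluing' F' (fun p : J => p.1.2) U
      (fun p => homOfLE p.2.2.1) hc
      (fun p => ext F N (hW p.1.1) (L p.1.1) p.2.1 p.2.2.2 (F.presheaf.map (homOfLE p.2.2.1).op m))
      fun p q => by
        let J' := {V : X.Opens // IsAffineOpen V ∧ V ≤ p.1.2 ⊓ q.1.2}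
        refine TopCat.Sheaf.eq_of_locally_eq' F' (fun V : J' => V.1) _ (fun V => homOfLE V.2.2)
          (fun x hx => ?_) _ _ fun V => ?_
        · obtain ⟨_, ⟨V, hV, rfl⟩, hxV, hVle⟩ :=
            X.isBasis_affineOpens.exists_subset_of_mem_open hx (p.1.2 ⊓ q.1.2).2
          exact Opens.mem_iSup.2 ⟨⟨V, hV, hVle⟩, hxV⟩
        · have h1 : V.1 ≤ p.1.2 := V.2.2.trans inf_le_left
          have h2 : V.1 ≤ q.1.2 := V.2.2.trans inf_le_right
          show N.presheaf.map (homOfLE V.2.2).op (N.presheaf.map (homOfLE inf_le_left).op _) =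
            N.presheaf.map (homOfLE V.2.2).op (N.presheaf.map (homOfLE inf_le_right).op _)
          rw [restr_trans, restr_trans, res_ext_apply F N _ _ p.2.1 V.2.1 _ h1,
            res_ext_apply F N _ _ q.2.1 V.2.1 _ h2, restr_trans, restr_trans,
            hagree p.1.1 q.1.1 V.1 V.2.1 (h1.trans p.2.2.2) (h2.trans q.2.2.2)]
    exact ⟨n, hn, fun n' hn' => huniq n' hn'⟩
  choose f hf huniq using hex
  let Φ : ∀ U : X.AffineZariskiSite, Γ(F, U.1) →+ Γ(N, U.1) := fun U =>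
    AddMonoidHom.mk' (f U.1 U.2) fun m m' => (huniq U.1 U.2 (m + m') _ fun p => by
      rw [map_add, map_add, map_add, hf U.1 U.2 m p, hf U.1 U.2 m' p]).symm
  obtain ⟨φ, hφ⟩ := ProjBundleLib.exists_hom_of_affine (E := F) (N := N) Φ
    (fun U hU r m => huniq _ (hU.basicOpen r) _ _ fun p => by
      have hp : p.1.2 ≤ U := p.2.2.1.trans (X.basicOpen_le r)
      rw [restr_trans, restr_trans]
      exact hf U hU m ⟨p.1, p.2.1, hp, p.2.2.2⟩)
    (fun U a m => (huniq U.1 U.2 (a • m) _ fun p => by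
      show N.presheaf.map _ (a • f U.1 U.2 m) = _
      rw [Scheme.Modules.map_smul, Scheme.Modules.map_smul, LinearMap.map_smul, hf U.1 U.2 m p]).symm)
  refine ⟨φ, fun a m => ?_⟩
  rw [hφ _ (hW a)]
  refine (huniq _ (hW a) m (L a m) fun p => ?_).symm
  rw [← ext_res F N (hW a) (L a) p.2.1 p.2.2.1]
  exact LinearMap.congr_fun (hagree a p.1.1 p.1.2 p.2.1 p.2.2.1 p.2.2.2) _

end glue

variable {I : Type u} [SmallCategory I] [IsCofiltered I] (D : I ⥤ Scheme.{u}) (c : Cone D) (hc : IsLimit c)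
  [hD : ∀ {i j : I} (f : i ⟶ j), IsAffineHom (D.map f)] (i₀ : I) (G : (D.obj i₀).Modules) [Coh.IsQCoh G]

omit [SmallCategory I] [IsCofiltered I] hD in
theorem exists_below {C : Type u} [Category.{u} C] [IsCofiltered C] {κ : Type*} [Finite κ] (j : κ → C) :
    ∃ k : C, Nonempty (∀ a, k ⟶ j a) := by
  classical
  cases nonempty_fintype κ
  obtain ⟨k, hk⟩ := IsCofiltered.inf_objs_exists (Finset.univ.image j)
  exact ⟨k, ⟨fun a => (hk (Finset.mem_image.2 ⟨a, Finset.mem_univ a, rfl⟩)).some⟩⟩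

omit hD [Coh.IsQCoh G] in
theorem ρ_tr_app_smul {j : Over i₀} (W : (D.obj i₀).Opens) (a : Γ(D.obj i₀, W)) (x : Γ(P D i₀ G j, W)) :
    (ρ D c i₀ G j).app W (a • x) = a • (ρ D c i₀ G j).app W x :=
  Scheme.Modules.Hom.app_smul (ρ D c i₀ G j) a x

include hc in
/-- Finitely many sections over affine opens vanishing on the limit vanish at one stage. -/
theorem exists_sec_zero_finite {κ : Type*} [Finite κ] (W : κ → (D.obj i₀).Opens) (hW : ∀ a, IsAffineOpen (W a))
    (j : Over i₀) (x : ∀ a, Γ(P D i₀ G j, W a)) (hx : ∀ a, (ρ D c i₀ G j).app (W a) (x a) = 0) :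
    ∃ (k : Over i₀) (g : k ⟶ j), ∀ a, (tr D i₀ G g).app (W a) (x a) = 0 := by
  classical
  cases nonempty_fintype κ
  have main : ∀ s : Finset κ, ∃ (k : Over i₀) (g : k ⟶ j), ∀ a ∈ s, (tr D i₀ G g).app (W a) (x a) = 0 := by
    intro s
    induction s using Finset.induction with
    | empty => exact ⟨j, 𝟙 j, by simp⟩
    | insert a s _ ih =>
      obtain ⟨k, g, hg⟩ := ih
      obtain ⟨l, g', hg'⟩ := exists_sec_zero D c hc i₀ G (hW a) k ((tr D i₀ G g).app (W a) (x a))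
        (by rw [tr_ρ_app]; exact hx a)
      refine ⟨l, g' ≫ g, fun b hb => ?_⟩
      rw [← tr_comp_app]
      obtain rfl | hb := Finset.mem_insert.1 hb
      · exact hg'
      · rw [hg b hb, map_zero]
  obtain ⟨k, g, hg⟩ := main Finset.univ
  exact ⟨k, g, fun a => hg a (Finset.mem_univ a)⟩

variable (F : (D.obj i₀).Modules) [Coh.IsQCoh F] (h' : F ⟶ Q D c i₀ G)

include hc in
/-- A morphism to the limit lifts on an affine open. -/
theorem exists_local_hom {W : (D.obj i₀).Opens} (hW : IsAffineOpen W)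
    [Module.FinitePresentation Γ(D.obj i₀, W) Γ(F, W)] :
    ∃ (j : Over i₀) (L : Γ(F, W) →ₗ[Γ(D.obj i₀, W)] Γ(P D i₀ G j, W)),
      ∀ m, (ρ D c i₀ G j).app W (L m) = h'.app W m := by
  classical
  obtain ⟨n, m, f, g, hf, hfg⟩ :=
    Module.FinitePresentation.exists_fin' Γ(D.obj i₀, W) Γ(F, W)
  let e : Fin n → (Fin n → Γ(D.obj i₀, W)) := fun l => Pi.single l 1
  choose j₁ hj₁ x hx using fun l => exists_sec_rep D c hc i₀ G hW (Over.mk (𝟙 i₀)) (h'.app W (f (e l)))
  obtain ⟨k, ⟨p⟩⟩ := exists_below j₁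
  let x' : Fin n → Γ(P D i₀ G k, W) := fun l => (tr D i₀ G (p l)).app W (x l)
  let lin : (Fin n → Γ(D.obj i₀, W)) →ₗ[Γ(D.obj i₀, W)] Γ(P D i₀ G k, W) := Fintype.linearCombination _ x'
  have hlin : ∀ v, (ρ D c i₀ G k).app W (lin v) = h'.app W (f v) := fun v => by
    have hv : v = ∑ l, v l • e l := by
      funext i
      simp [e, Finset.sum_apply, Pi.single_apply]
    rw [show lin v = ∑ l, v l • x' l from rfl, map_sum]
    conv_rhs => rw [hv, map_sum, map_sum]
    refine Finset.sum_congr rfl fun l _ => ?_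
    rw [ρ_tr_app_smul, LinearMap.map_smul, Scheme.Modules.Hom.app_smul, ← hx l, tr_ρ_app]
  obtain ⟨k', q, hq⟩ := exists_sec_zero_finite D c hc i₀ G (fun _ : Fin m => W) (fun _ => hW) k
    (fun l => lin (g (Pi.single l 1))) fun l => by
      rw [hlin, hfg.apply_apply_eq_zero, map_zero]
  let lin' : (Fin n → Γ(D.obj i₀, W)) →ₗ[Γ(D.obj i₀, W)] Γ(P D i₀ G k', W) :=
    { toFun := fun v => (tr D i₀ G q).app W (lin v)
      map_add' := fun v v' => by rw [map_add, map_add]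
      map_smul' := fun a v => by
        rw [LinearMap.map_smul, RingHom.id_apply]
        exact Scheme.Modules.Hom.app_smul (tr D i₀ G q) a (lin v) }
  have hker : LinearMap.ker f ≤ LinearMap.ker lin' := by
    rw [LinearMap.exact_iff.1 hfg]
    rintro _ ⟨v, rfl⟩
    have h0 : lin'.comp g = 0 := LinearMap.pi_ext' fun l => LinearMap.ext_ring (by
      show (tr D i₀ G q).app W (lin (g (Pi.single l 1))) = 0
      exact hq l)
    exact LinearMap.congr_fun h0 v
  refine ⟨k', ((LinearMap.ker f).liftQ lin' hker).comp (f.quotKerEquivOfSurjective hf).symm.toLinearMap,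
    fun y => ?_⟩
  obtain ⟨v, rfl⟩ := hf y
  rw [LinearMap.comp_apply, LinearEquiv.coe_coe,
    show (f.quotKerEquivOfSurjective hf).symm (f v) = Submodule.Quotient.mk v from
      (LinearEquiv.symm_apply_eq _).2 rfl, Submodule.liftQ_apply]
  show (ρ D c i₀ G k').app W ((tr D i₀ G q).app W (lin v)) = _
  rw [tr_ρ_app, hlin]

variable [CompactSpace (D.obj i₀)] [QuasiSeparatedSpace (D.obj i₀)]

set_option maxHeartbeats 2000000 in
include hc in
/-- A morphism from a finitely presented module to the limit comes from a stage. -/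
theorem exists_hom_stage (hF : CohB1.IsFP F) :
    ∃ (j : Over i₀) (a : F ⟶ P D i₀ G j), a ≫ ρ D c i₀ G j = h' := by
  classical
  obtain ⟨t, ht⟩ := isCompact_univ.elim_finite_subcover (fun W : (D.obj i₀).affineOpens => (W.1 : Set (D.obj i₀)))
    (fun W => W.1.2) fun x _ => by
      obtain ⟨_, ⟨W, hW, rfl⟩, hx, -⟩ :=
        (D.obj i₀).isBasis_affineOpens.exists_subset_of_mem_open (Set.mem_univ x) isOpen_univ
      exact Set.mem_iUnion.2 ⟨⟨W, hW⟩, hx⟩
  let W : ↥t → (D.obj i₀).Opens := fun a => a.1.1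
  have hW : ∀ a, IsAffineOpen (W a) := fun a => a.1.2
  have hcov : ⨆ a, W a = ⊤ := eq_top_iff.2 fun x _ => by
    obtain ⟨V, hV, hx⟩ := Set.mem_iUnion₂.1 (ht (Set.mem_univ x))
    exact Opens.mem_iSup.2 ⟨⟨V, hV⟩, hx⟩
  choose j₁ L₁ hL₁ using fun a => by
    haveI := QCohLib.finitePresentation_sections F hF (hW a)
    exact exists_local_hom D c hc i₀ G F h' (hW a)
  obtain ⟨k, ⟨p⟩⟩ := exists_below j₁
  let L₂ : ∀ a, Γ(F, W a) →ₗ[Γ(D.obj i₀, W a)] Γ(P D i₀ G k, W a) := fun a =>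
    { toFun := fun m => (tr D i₀ G (p a)).app (W a) (L₁ a m)
      map_add' := fun x y => by rw [map_add, map_add]
      map_smul' := fun r m => by
        rw [LinearMap.map_smul, RingHom.id_apply]
        exact Scheme.Modules.Hom.app_smul (tr D i₀ G (p a)) r (L₁ a m) }
  have hL₂ : ∀ a m, (ρ D c i₀ G k).app (W a) (L₂ a m) = h'.app (W a) m := fun a m =>
    (tr_ρ_app D c i₀ G (p a) (W a) (L₁ a m)).trans (hL₁ a m)
  have hext : ∀ a (V : (D.obj i₀).Opens) (hV : IsAffineOpen V) (hle : V ≤ W a) (m : Γ(F, V)),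
      (ρ D c i₀ G k).app V (ext F _ (hW a) (L₂ a) hV hle m) = h'.app V m := by
    intro a V hV hle
    let α : Γ(F, V) →ₗ[Γ(D.obj i₀, V)] Γ(Q D c i₀ G, V) :=
      { toFun := fun m => (ρ D c i₀ G k).app V (ext F _ (hW a) (L₂ a) hV hle m)
        map_add' := fun x y => by rw [map_add, map_add]
        map_smul' := fun r m => by rw [LinearMap.map_smul, RingHom.id_apply, ρ_tr_app_smul] }
    let β : Γ(F, V) →ₗ[Γ(D.obj i₀, V)] Γ(Q D c i₀ G, V) :=
      { toFun := fun m => h'.app V m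
        map_add' := fun x y => by rw [map_add]
        map_smul' := fun r m => Scheme.Modules.Hom.app_smul h' r m }
    have hαβ : α = β := res_ext F (hW a) hV hle fun m => by
      show (ρ D c i₀ G k).app V (ext F _ (hW a) (L₂ a) hV hle _) = h'.app V _
      rw [ext_res, QCohLib.app_res, QCohLib.app_res, hL₂]
    exact fun m => LinearMap.congr_fun hαβ m
  -- finitely many affine pieces of the overlaps, with generators
  have hpieces : ∀ ab : ↥t × ↥t, ∃ s : Finset (D.obj i₀).affineOpens,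
      (∀ V ∈ s, V.1 ≤ W ab.1 ⊓ W ab.2) ∧
        ((W ab.1 ⊓ W ab.2 : (D.obj i₀).Opens) : Set (D.obj i₀)) ⊆ ⋃ V ∈ s, (V.1 : Set (D.obj i₀)) := fun ab => by
    have hK : IsCompact ((W ab.1 ⊓ W ab.2 : (D.obj i₀).Opens) : Set (D.obj i₀)) :=
      QuasiSeparatedSpace.inter_isCompact _ _ (W ab.1).2 (hW _).isCompact (W ab.2).2 (hW _).isCompact
    obtain ⟨s, hs⟩ := hK.elim_finite_subcover
      (fun V : {V : (D.obj i₀).affineOpens // V.1 ≤ W ab.1 ⊓ W ab.2} => (V.1.1 : Set (D.obj i₀)))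
      (fun V => V.1.1.2) fun x hx => by
        obtain ⟨_, ⟨V, hV, rfl⟩, hxV, hle⟩ :=
          (D.obj i₀).isBasis_affineOpens.exists_subset_of_mem_open hx (W ab.1 ⊓ W ab.2).2
        exact Set.mem_iUnion.2 ⟨⟨⟨V, hV⟩, hle⟩, hxV⟩
    refine ⟨s.image Subtype.val, fun V hV => ?_, fun x hx => ?_⟩
    · obtain ⟨V', -, rfl⟩ := Finset.mem_image.1 hV
      exact V'.2
    · obtain ⟨V, hV, hxV⟩ := Set.mem_iUnion₂.1 (hs hx)
      exact Set.mem_iUnion₂.2 ⟨V.1, Finset.mem_image.2 ⟨V, hV, rfl⟩, hxV⟩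
  choose s hs hscov using hpieces
  choose n g hg using fun a => by
    haveI := QCohLib.finitePresentation_sections F hF (hW a)
    exact Module.Finite.exists_fin (R := Γ(D.obj i₀, W a)) (M := Γ(F, W a))
  let κ := Σ ab : ↥t × ↥t, ↥(s ab) × Fin (n ab.1)
  let V : κ → (D.obj i₀).Opens := fun q => q.2.1.1.1
  have ha : ∀ q : κ, V q ≤ W q.1.1 := fun q => (hs _ _ q.2.1.2).trans inf_le_left
  have hb : ∀ q : κ, V q ≤ W q.1.2 := fun q => (hs _ _ q.2.1.2).trans inf_le_right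
  let gen : ∀ q : κ, Γ(F, V q) := fun q => F.presheaf.map (homOfLE (ha q)).op (g q.1.1 q.2.2)
  obtain ⟨k', r, hr⟩ := exists_sec_zero_finite D c hc i₀ G V (fun q => q.2.1.1.2) k
    (fun q => ext F _ (hW q.1.1) (L₂ q.1.1) q.2.1.1.2 (ha q) (gen q) -
      ext F _ (hW q.1.2) (L₂ q.1.2) q.2.1.1.2 (hb q) (gen q)) fun q => by
      rw [map_sub, hext, hext, sub_self]
  let L₃ : ∀ a, Γ(F, W a) →ₗ[Γ(D.obj i₀, W a)] Γ(P D i₀ G k', W a) := fun a =>
    { toFun := fun m => (tr D i₀ G r).app (W a) (L₂ a m)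
      map_add' := fun x y => by rw [map_add, map_add]
      map_smul' := fun c' m => by
        rw [LinearMap.map_smul, RingHom.id_apply]
        exact Scheme.Modules.Hom.app_smul (tr D i₀ G r) c' (L₂ a m) }
  have hL₃ : ∀ a (V : (D.obj i₀).Opens) (hV : IsAffineOpen V) (hle : V ≤ W a) (m : Γ(F, V)),
      ext F _ (hW a) (L₃ a) hV hle m = (tr D i₀ G r).app V (ext F _ (hW a) (L₂ a) hV hle m) := by
    intro a V hV hle
    let β : Γ(F, V) →ₗ[Γ(D.obj i₀, V)] Γ(P D i₀ G k', V) :=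
      { toFun := fun m => (tr D i₀ G r).app V (ext F _ (hW a) (L₂ a) hV hle m)
        map_add' := fun x y => by rw [map_add, map_add]
        map_smul' := fun c' m => by
          rw [LinearMap.map_smul, RingHom.id_apply]
          exact Scheme.Modules.Hom.app_smul (tr D i₀ G r) c' _ }
    have hαβ : ext F _ (hW a) (L₃ a) hV hle = β := res_ext F (hW a) hV hle fun m => by
      show _ = (tr D i₀ G r).app V (ext F _ (hW a) (L₂ a) hV hle _)
      rw [ext_res, ext_res, QCohLib.app_res]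
      rfl
    exact fun m => LinearMap.congr_fun hαβ m
  have hq : ∀ q : κ, ext F _ (hW q.1.1) (L₃ q.1.1) q.2.1.1.2 (ha q) (gen q) =
      ext F _ (hW q.1.2) (L₃ q.1.2) q.2.1.1.2 (hb q) (gen q) := fun q => by
    rw [hL₃, hL₃, ← sub_eq_zero, ← map_sub]
    exact hr q
  obtain ⟨φ, hφ⟩ := exists_hom_of_cover F (P D i₀ G k') W hW hcov L₃ fun a b U hU hUa hUb => by
    refine LinearMap.ext fun m => ?_
    let J := {Y : (D.obj i₀).Opens // IsAffineOpen Y ∧ Y ≤ U ∧ ∃ V' ∈ s (a, b), Y ≤ V'.1}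
    refine TopCat.Sheaf.eq_of_locally_eq'
      (⟨(P D i₀ G k').presheaf, (P D i₀ G k').isSheaf⟩ : TopCat.Sheaf Ab.{u} (D.obj i₀).carrier)
      (fun Y : J => Y.1) U (fun Y => homOfLE Y.2.2.1) (fun x hx => ?_) _ _ fun Y => ?_
    · obtain ⟨V', hV', hxV'⟩ := Set.mem_iUnion₂.1 (hscov (a, b) ⟨hUa hx, hUb hx⟩)
      obtain ⟨_, ⟨Y, hY, rfl⟩, hxY, hle⟩ := (D.obj i₀).isBasis_affineOpens.exists_subset_of_mem_open
        (a := x) (u := ↑(U ⊓ V'.1)) ⟨hx, hxV'⟩ (U ⊓ V'.1).2
      exact Opens.mem_iSup.2 ⟨⟨Y, hY, fun y hy => (hle hy).1, V', hV', fun y hy => (hle hy).2⟩, hxY⟩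
    · obtain ⟨Y, hY, hYU, V', hV', hYV'⟩ := Y
      show (P D i₀ G k').presheaf.map (homOfLE hYU).op _ = (P D i₀ G k').presheaf.map (homOfLE hYU).op _
      rw [res_ext_apply F _ _ _ hU hY _ hYU, res_ext_apply F _ _ _ hU hY _ hYU]
      have hle := hs (a, b) V' hV'
      have heq : ext F _ (hW a) (L₃ a) hY (hYU.trans hUa) = ext F _ (hW b) (L₃ b) hY (hYU.trans hUb) := by
        rw [← ext_trans F _ (hW a) (L₃ a) V'.2 hY (hle.trans inf_le_left) hYV',
          ← ext_trans F _ (hW b) (L₃ b) V'.2 hY (hle.trans inf_le_right) hYV']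
        suffices heV : ext F _ (hW a) (L₃ a) V'.2 (hle.trans inf_le_left) =
            ext F _ (hW b) (L₃ b) V'.2 (hle.trans inf_le_right) by rw [heV]
        refine res_ext F (hW a) V'.2 (hle.trans inf_le_left) fun m => ?_
        obtain ⟨v, rfl⟩ : ∃ v : Fin (n a) → Γ(D.obj i₀, W a), ∑ l, v l • g a l = m :=
          (Submodule.mem_span_range_iff_exists_fun _).1 (by rw [hg a]; trivial)
        simp only [map_sum, Scheme.Modules.map_smul, LinearMap.map_smul]
        exact Finset.sum_congr rfl fun l _ => congrArg (_ • ·) (hq ⟨(a, b), ⟨V', hV'⟩, l⟩)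
      exact LinearMap.congr_fun heq _
  refine ⟨k', φ, ?_⟩
  ext U m
  refine TopCat.Sheaf.eq_of_locally_eq'
    (⟨(Q D c i₀ G).presheaf, (Q D c i₀ G).isSheaf⟩ : TopCat.Sheaf Ab.{u} (D.obj i₀).carrier)
    (fun p : {p : ↥t × (D.obj i₀).Opens // IsAffineOpen p.2 ∧ p.2 ≤ U ∧ p.2 ≤ W p.1} => p.1.2) U
    (fun p => homOfLE p.2.2.1) (fun x hx => ?_) _ _ fun p => ?_
  · obtain ⟨a, ha⟩ := Opens.mem_iSup.1 (hcov.ge (Opens.mem_top x))
    obtain ⟨_, ⟨Y, hY, rfl⟩, hxY, hle⟩ := (D.obj i₀).isBasis_affineOpens.exists_subset_of_mem_open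
      (a := x) (u := ↑(U ⊓ W a)) ⟨hx, ha⟩ (U ⊓ W a).2
    exact Opens.mem_iSup.2 ⟨⟨(a, Y), hY, fun y hy => (hle hy).1, fun y hy => (hle hy).2⟩, hxY⟩
  · obtain ⟨⟨a, Y⟩, hY, hYU, hYa⟩ := p
    show (Q D c i₀ G).presheaf.map (homOfLE hYU).op ((φ ≫ ρ D c i₀ G k').app U m) =
      (Q D c i₀ G).presheaf.map (homOfLE hYU).op (h'.app U m)
    rw [← QCohLib.app_res, ← QCohLib.app_res]
    generalize F.presheaf.map (homOfLE hYU).op m = y
    let α : Γ(F, Y) →ₗ[Γ(D.obj i₀, Y)] Γ(Q D c i₀ G, Y) :=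
      { toFun := fun y => (φ ≫ ρ D c i₀ G k').app Y y
        map_add' := fun x y => by rw [map_add]
        map_smul' := fun c' y => Scheme.Modules.Hom.app_smul _ c' y }
    let β : Γ(F, Y) →ₗ[Γ(D.obj i₀, Y)] Γ(Q D c i₀ G, Y) :=
      { toFun := fun y => h'.app Y y
        map_add' := fun x y => by rw [map_add]
        map_smul' := fun c' y => Scheme.Modules.Hom.app_smul _ c' y }
    have hαβ : α = β := res_ext F (hW a) hY hYa fun m => by
      show (φ ≫ ρ D c i₀ G k').app Y _ = h'.app Y _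
      rw [QCohLib.app_res, QCohLib.app_res]
      refine congrArg _ ?_
      show (ρ D c i₀ G k').app (W a) (φ.app (W a) m) = _
      rw [hφ a m]
      exact (tr_ρ_app D c i₀ G r (W a) (L₂ a m)).trans (hL₂ a m)
    exact LinearMap.congr_fun hαβ y

end Groth.Agent.LimHom
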