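import Groth.Agent.LimHom.Quot
import Groth.Agent.AffLim.DescendBaseChange
import Groth.Agent.PullbackMod.Hom
import Groth.Agent.CurveLib.Inv

/-! Generation relative to a morphism descends to a stage. -/

set_option autoImplicit false
set_option backward.isDefEq.respectTransparency false
set_option linter.style.haveILetI false

universe u

open CategoryTheory CategoryTheory.Limits AlgebraicGeometry TopologicalSpace Opposite
open Groth.Agent.PullbackMod

noncomputable section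

namespace Groth.Agent.LimHom

variable {X Y : Scheme.{u}}

/-- `L` is a quotient of some inverse image along `f`. -/
def RelGen (f : X ⟶ Y) (L : X.Modules) : Prop :=
  ∃ (H : Y.Modules) (w : (Scheme.Modules.pullback f).obj H ⟶ L), Epi w

theorem relGen_of_epi_counit {f : X ⟶ Y} {L : X.Modules}
    (h : Epi ((Scheme.Modules.pullbackPushforwardAdjunction f).counit.app L)) : RelGen f L :=
  ⟨_, _, h⟩

theorem RelGen.epi_counit {f : X ⟶ Y} {L : X.Modules} (h : RelGen f L) :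
    Epi ((Scheme.Modules.pullbackPushforwardAdjunction f).counit.app L) := by
  obtain ⟨H, w, hw⟩ := h
  let adj := Scheme.Modules.pullbackPushforwardAdjunction f
  have : (Scheme.Modules.pullback f).map (adj.homEquiv H L w) ≫ adj.counit.app L = w := by
    exact (adj.homEquiv_counit H L (adj.homEquiv H L w)).symm.trans (Equiv.symm_apply_apply _ _)
  haveI : Epi ((Scheme.Modules.pullback f).map (adj.homEquiv H L w) ≫ adj.counit.app L) := by
    rw [this]
    exact hw
  exact epi_of_epi ((Scheme.Modules.pullback f).map (adj.homEquiv H L w)) _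

/-- Base change of generation relative to a morphism. -/
theorem RelGen.transport {f : X ⟶ Y} {L : X.Modules} (h : RelGen f L) {X' Y' : Scheme.{u}}
    (f' : X' ⟶ Y') (t : X' ⟶ X) (s : Y' ⟶ Y) (e : f' ≫ s = t ≫ f) {L' : X'.Modules}
    (i : (Scheme.Modules.pullback t).obj L ≅ L') : RelGen f' L' := by
  obtain ⟨H, w, hw⟩ := h
  haveI := (Scheme.Modules.pullbackPushforwardAdjunction t).isLeftAdjoint
  refine ⟨(Scheme.Modules.pullback s).obj H,
    (FpqcQCoh.cmpIso H f' (show f' ≫ s = t ≫ f from e)).hom ≫ (FpqcQCoh.cmpIso H t rfl).inv ≫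
      (Scheme.Modules.pullback t).map w ≫ i.hom, ?_⟩
  infer_instance

/-- A quotient of an inverse image is one of the inverse image of a module of finite presentation. -/
theorem RelGen.exists_fp {f : X ⟶ Y} [QuasiCompact f] [QuasiSeparated f] [CompactSpace Y]
    [QuasiSeparatedSpace Y] {L : X.Modules} [Coh.IsQCoh L] (hL : CohB1.IsFT L) (h : RelGen f L) :
    ∃ (H : Y.Modules) (w : (Scheme.Modules.pullback f).obj H ⟶ L),
      Coh.IsQCoh H ∧ CohB1.IsFP H ∧ Epi w := by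
  classical
  haveI hep := h.epi_counit
  haveI : CompactSpace X := QuasiCompact.compactSpace_of_compactSpace f
  haveI := QCohLib.isQCoh_pushforward L f
  let F := (Scheme.Modules.pushforward f).obj L
  haveI := PullbackMod.isQCoh_pullback f F
  let ε : (Scheme.Modules.pullback f).obj F ⟶ L :=
    (Scheme.Modules.pullbackPushforwardAdjunction f).counit.app L
  choose W W' hW hW' hx hle using fun x : X => PullbackMod.exists_affine_pair f x
  obtain ⟨c, hc⟩ := isCompact_univ.elim_finite_subcover (fun x : X => ((W' x : X.Opens) : Set X))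
    (fun x => (W' x).isOpen) fun x _ => Set.mem_iUnion.mpr ⟨x, hx x⟩
  -- finitely many sections of `F` whose inverse images generate `L` on each chart
  have hM : ∀ x : X, ∃ S : Finset Γ(F, W x), Submodule.span Γ(X, W' x)
      ((fun m => ε.app (W' x) (pullMap f F (hle x) m)) '' (S : Set Γ(F, W x))) = ⊤ := by
    intro x
    letI := (f.appLE (W x) (W' x) (hle x)).hom.toAlgebra
    obtain ⟨φ, hφ⟩ := exists_pullback_sections_equiv f F (hW x) (hW' x) (hle x)
    obtain ⟨T, hT⟩ := ((QCohLib.finite_sections L hL (hW' x)).fg_top :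
      (⊤ : Submodule Γ(X, W' x) Γ(L, W' x)).FG)
    have hsur : Function.Surjective (ε.app (W' x)) :=
      ProjBundleLib.surjective_app_of_epi inferInstance inferInstance ε (hW' x)
    have key : ∀ z, ∃ S : Finset Γ(F, W x), ε.app (W' x) (φ z) ∈ Submodule.span Γ(X, W' x)
        ((fun m => ε.app (W' x) (pullMap f F (hle x) m)) '' (S : Set Γ(F, W x))) := fun z => by
      induction z using TensorProduct.induction_on with
      | zero => exact ⟨∅, by rw [map_zero, map_zero]; exact zero_mem _⟩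
      | tmul b m =>
        refine ⟨{m}, ?_⟩
        rw [hφ, Scheme.Modules.Hom.app_smul]
        exact Submodule.smul_mem _ _ (Submodule.subset_span ⟨m, by simp, rfl⟩)
      | add a b ha hb =>
        obtain ⟨A, hA⟩ := ha
        obtain ⟨B, hB⟩ := hb
        refine ⟨A ∪ B, ?_⟩
        rw [map_add, map_add]
        exact add_mem (Submodule.span_mono (Set.image_mono (by simp)) hA)
          (Submodule.span_mono (Set.image_mono (by simp)) hB)
    have key' : ∀ l : Γ(L, W' x), ∃ S : Finset Γ(F, W x), l ∈ Submodule.span Γ(X, W' x)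
        ((fun m => ε.app (W' x) (pullMap f F (hle x) m)) '' (S : Set Γ(F, W x))) := fun l => by
      obtain ⟨y, rfl⟩ := hsur l
      obtain ⟨z, rfl⟩ := φ.surjective y
      exact key z
    choose S hS using key'
    refine ⟨T.biUnion S, top_le_iff.mp (hT ▸ Submodule.span_le.mpr fun l hl => ?_)⟩
    exact Submodule.span_mono (Set.image_mono (Finset.coe_subset.mpr (Finset.subset_biUnion_of_mem S hl)))
      (hS l)
  choose S hS using hM
  obtain ⟨H, ψ, hH, hHfp, hit⟩ := FPApproxLib.exists_fp_through F (ι := Σ x : c, {m // m ∈ S x.1})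
    (fun k => W k.1.1) (fun k => hW k.1.1) (fun k => k.2.1)
  haveI := hH
  refine ⟨H, (Scheme.Modules.pullback f).map ψ ≫ ε, hH, hHfp, ⟨fun {Z} g₁ g₂ e =>
    FPApproxLib.hom_ext_opens g₁ g₂ c (fun x => W' x.1) (fun x => hW' x.1)
      (eq_top_iff.mpr fun y _ => ?_) fun x l => ?_⟩⟩
  · obtain ⟨x, hxc, hy⟩ := Set.mem_iUnion₂.mp (hc (Set.mem_univ y))
    exact Opens.mem_iSup.mpr ⟨⟨x, hxc⟩, hy⟩
  have hl : l ∈ Submodule.span Γ(X, W' x.1)
      ((fun m => ε.app (W' x.1) (pullMap f F (hle x.1) m)) '' (S x.1 : Set Γ(F, W x.1))) :=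
    (hS x.1).symm ▸ Submodule.mem_top
  induction hl using Submodule.span_induction with
  | mem l hl =>
    obtain ⟨m, hm, rfl⟩ := hl
    obtain ⟨m', hm'⟩ := hit ⟨x, m, hm⟩
    dsimp only at hm'
    rw [← hm']
    beta_reduce
    rw [← pullMap_natural]
    exact congrArg (fun χ : (Scheme.Modules.pullback f).obj H ⟶ Z =>
      χ.app (W' x.1) (pullMap f H (hle x.1) m')) e
  | zero => rw [map_zero, map_zero]
  | add a b _ _ ha hb => rw [map_add, map_add, ha, hb]
  | smul r a _ ha => rw [Scheme.Modules.Hom.app_smul, Scheme.Modules.Hom.app_smul, ha]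

section stage

open Groth.Agent.AffLim

variable {I : Type u} [SmallCategory I] [IsCofiltered I] (D : I ⥤ Scheme.{u}) (c : Cone D) (hc : IsLimit c)
  [hD : ∀ {i j : I} (f : i ⟶ j), IsAffineHom (D.map f)] (i₀ : I)
  {X₀ Y₀ : Scheme.{u}} (f₀ : X₀ ⟶ Y₀) (g₀ : Y₀ ⟶ D.obj i₀)
  [CompactSpace X₀] [QuasiSeparatedSpace X₀] [CompactSpace Y₀] [QuasiSeparatedSpace Y₀]
  [QuasiCompact f₀] [QuasiSeparated f₀]

omit [IsCofiltered I] in
theorem qs_baseChange {T : Scheme.{u}} [QuasiSeparatedSpace T] (a : T ⟶ D.obj i₀) (j : Over i₀) :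
    QuasiSeparatedSpace ((baseChange D i₀ a).obj j) := by
  haveI : IsAffineHom (pullback.fst a (D.map j.hom)) :=
    MorphismProperty.pullback_fst (P := @IsAffineHom) a (D.map j.hom) inferInstance
  exact quasiSeparatedSpace_of_quasiSeparated (pullback.fst a (D.map j.hom))

theorem relGen_descend_abs {J : Type u} [SmallCategory J] [IsCofiltered J] (EX EY : J ⥤ Scheme.{u})
    (cX : Cone EX) (hcX : IsLimit cX) (cY : Cone EY) (hcY : IsLimit cY)
    [∀ {a b : J} (φ : a ⟶ b), IsAffineHom (EX.map φ)] [∀ {a b : J} (φ : a ⟶ b), IsAffineHom (EY.map φ)]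
    [∀ a, CompactSpace (EX.obj a)] [∀ a, QuasiSeparatedSpace (EX.obj a)]
    [∀ a, CompactSpace (EY.obj a)] [∀ a, QuasiSeparatedSpace (EY.obj a)]
    [CompactSpace cY.pt] [QuasiSeparatedSpace cY.pt]
    (ν : ∀ a, EX.obj a ⟶ EY.obj a) (hν : ∀ {a b : J} (φ : a ⟶ b), ν a ≫ EY.map φ = EX.map φ ≫ ν b)
    (fl : cX.pt ⟶ cY.pt) [QuasiCompact fl] [QuasiSeparated fl] (hfl : ∀ a, pr cX a ≫ ν a = fl ≫ pr cY a)
    (o : J) {Z : Scheme.{u}} (q : ∀ a, EX.obj a ⟶ Z) (hq : ∀ {a b : J} (φ : a ⟶ b), EX.map φ ≫ q b = q a)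
    (ql : cX.pt ⟶ Z) (hql : ∀ a, pr cX a ≫ q a = ql)
    (L₀ : Z.Modules) [Coh.IsQCoh L₀] (hL₀ : CohB1.IsFT L₀)
    (h : RelGen fl ((Scheme.Modules.pullback ql).obj L₀)) :
    ∃ l : J, RelGen (ν l) ((Scheme.Modules.pullback (q l)).obj L₀) := by
  let L := (Scheme.Modules.pullback ql).obj L₀
  haveI : Coh.IsQCoh L := PullbackMod.isQCoh_pullback _ L₀
  have hLft : CohB1.IsFT L := PullbackMod.isFiniteType_pullback _ L₀ hL₀
  obtain ⟨H, w, hH, hHfp, hw⟩ := h.exists_fp hLft
  haveI := hH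
  -- descend `H`
  obtain ⟨k, -, Hk, hHk, hHkfp, ⟨eH⟩⟩ := exists_stage_module EY cY hcY o H hHfp
  haveI := hHk
  let F₁ := (Scheme.Modules.pullback (ν k)).obj Hk
  let G₁ := (Scheme.Modules.pullback (q k)).obj L₀
  haveI : Coh.IsQCoh F₁ := PullbackMod.isQCoh_pullback (ν k) Hk
  haveI : Coh.IsQCoh G₁ := PullbackMod.isQCoh_pullback (q k) L₀
  have hF₁ : CohB1.IsFP F₁ := PullbackMod.isFP_pullback (ν k) Hk hHkfp
  have hG₁ : CohB1.IsFT G₁ := PullbackMod.isFiniteType_pullback (q k) L₀ hL₀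
  let α := FpqcQCoh.cmpIso Hk (pr cX k) (hfl k) ≪≫
    (FpqcQCoh.cmpIso Hk fl rfl).symm ≪≫ (Scheme.Modules.pullback fl).mapIso eH
  let β := FpqcQCoh.cmpIso L₀ (pr cX k) (hql k)
  obtain ⟨j, φ, hj, hj'⟩ := exists_stage_hom EX cX hcX k (F₀ := F₁) (G₀ := G₁) hF₁
    (α.hom ≫ w ≫ β.inv)
  haveI := hw
  haveI : Epi (ov (pr cX j) (pr_w cX φ) hj) := by
    rw [hj']
    infer_instance
  have hep : Epi ((Scheme.Modules.pullback (pr cX j)).map hj) := by
    let γ := FpqcQCoh.cmpIso F₁ (pr cX j) (pr_w cX φ)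
    let δ := FpqcQCoh.cmpIso G₁ (pr cX j) (pr_w cX φ)
    have : (Scheme.Modules.pullback (pr cX j)).map hj =
        γ.hom ≫ ov (pr cX j) (pr_w cX φ) hj ≫ δ.inv := by
      simp [ov, γ, δ]
    rw [this]
    infer_instance
  haveI := PullbackMod.isQCoh_pullback (EX.map φ) F₁
  haveI := PullbackMod.isQCoh_pullback (EX.map φ) G₁
  obtain ⟨l, ψ, hl⟩ := (PullbackMod.epi_eventually EX cX hcX j hj
    (PullbackMod.isFiniteType_pullback (EX.map φ) G₁ hG₁)).mp hep
  haveI := hl
  refine ⟨l, (Scheme.Modules.pullback (EY.map (ψ ≫ φ))).obj Hk,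
    (FpqcQCoh.cmpIso Hk (ν l) (hν (ψ ≫ φ))).hom ≫
    (FpqcQCoh.cmpIso Hk (EX.map (ψ ≫ φ)) (rfl : EX.map (ψ ≫ φ) ≫ ν k = _)).inv ≫
    (FpqcQCoh.cmpIso F₁ (EX.map ψ) (EX.map_comp ψ φ).symm).inv ≫
    (Scheme.Modules.pullback (EX.map ψ)).map hj ≫
    (FpqcQCoh.cmpIso G₁ (EX.map ψ) (EX.map_comp ψ φ).symm).hom ≫
    (FpqcQCoh.cmpIso L₀ (EX.map (ψ ≫ φ)) (hq (ψ ≫ φ))).hom, ?_⟩
  infer_instance

include hc in
theorem relGen_descend (L₀ : X₀.Modules) [Coh.IsQCoh L₀] (hL₀ : CohB1.IsFT L₀)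
    (h : RelGen (baseChangeMapLimit D c i₀ f₀ g₀)
      ((Scheme.Modules.pullback (pullback.fst (f₀ ≫ g₀) (c.π.app i₀))).obj L₀)) :
    ∃ l : Over i₀, RelGen ((baseChangeMap D i₀ f₀ g₀).app l)
      ((Scheme.Modules.pullback (pullback.fst (f₀ ≫ g₀) (D.map l.hom))).obj L₀) := by
  haveI : IsAffineHom (c.π.app i₀) := isAffineHom_π_app D c hc i₀
  haveI : IsAffineHom (pullback.fst g₀ (c.π.app i₀)) :=
    MorphismProperty.pullback_fst (P := @IsAffineHom) g₀ (c.π.app i₀) inferInstance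
  haveI : CompactSpace (baseChangeCone D c i₀ g₀).pt :=
    QuasiCompact.compactSpace_of_compactSpace (pullback.fst g₀ (c.π.app i₀))
  haveI : QuasiSeparatedSpace (baseChangeCone D c i₀ g₀).pt :=
    quasiSeparatedSpace_of_quasiSeparated (pullback.fst g₀ (c.π.app i₀))
  have hsq := isPullback_map_fst D i₀ f₀ g₀ (c.π.app i₀)
  haveI hqc : QuasiCompact (baseChangeMapLimit D c i₀ f₀ g₀) :=
    MorphismProperty.of_isPullback hsq ‹QuasiCompact f₀›
  haveI hqs : QuasiSeparated (baseChangeMapLimit D c i₀ f₀ g₀) :=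
    MorphismProperty.of_isPullback hsq ‹QuasiSeparated f₀›
  haveI : ∀ a : Over i₀, QuasiSeparatedSpace ((baseChange D i₀ (f₀ ≫ g₀)).obj a) := qs_baseChange D i₀ _
  haveI : ∀ a : Over i₀, QuasiSeparatedSpace ((baseChange D i₀ g₀).obj a) := qs_baseChange D i₀ _
  exact relGen_descend_abs (baseChange D i₀ (f₀ ≫ g₀)) (baseChange D i₀ g₀) _
    (nonempty_isLimit_baseChangeCone D c hc i₀ (f₀ ≫ g₀)).some _
    (nonempty_isLimit_baseChangeCone D c hc i₀ g₀).some
    (fun a => (baseChangeMap D i₀ f₀ g₀).app a) (fun φ => ((baseChangeMap D i₀ f₀ g₀).naturality φ).symm)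
    (baseChangeMapLimit D c i₀ f₀ g₀) (fun a => (baseChangeMapLimit_w D c i₀ f₀ g₀ a).symm)
    (Over.mk (𝟙 i₀)) (fun a => pullback.fst (f₀ ≫ g₀) (D.map a.hom))
    (fun φ => (pullback.lift_fst _ _ _).trans (Category.comp_id _))
    (pullback.fst (f₀ ≫ g₀) (c.π.app i₀))
    (fun a => (pullback.lift_fst _ _ _).trans (Category.comp_id _)) L₀ hL₀ h

end stage

end Groth.Agent.LimHom
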