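import Groth.Agent.FpqcQCoh.Affine
import Groth.Agent.PullbackMod.ColimTensor
import Mathlib.AlgebraicGeometry.AffineTransitionLimit

/-!
# Sections of inverse images along the stages of a limit, read on the base stage
-/

set_option autoImplicit false
set_option backward.isDefEq.respectTransparency false
set_option backward.defeqAttrib.useBackward true
set_option linter.style.haveILetI false

universe u

open CategoryTheory CategoryTheory.Limits AlgebraicGeometry TopologicalSpace Opposite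
open Groth.Agent.PullbackMod Groth.Agent.CohBase Groth.Agent.FpqcQCoh
open scoped TensorProduct

noncomputable section

namespace Groth.Agent.LimHom

/-- The projection to a stage. -/
def pr {J : Type u} [Category.{u} J] {E : J ⥤ Scheme.{u}} (e : Cone E) (k : J) : e.pt ⟶ E.obj k := e.π.app k

theorem pr_w {J : Type u} [Category.{u} J] {E : J ⥤ Scheme.{u}} (e : Cone E) {j k : J} (f : k ⟶ j) :
    pr e k ≫ E.map f = pr e j := e.w f

section uMap

variable {S X T : Scheme.{u}} (M : S.Modules) {f : X ⟶ S} (t : T ⟶ X) {h : T ⟶ S} (e : t ≫ f = h)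

theorem uMap_comp {U : Scheme.{u}} (q : U ⟶ T) {h' : U ⟶ S} (e' : q ≫ h = h') (r : U ⟶ X)
    (e'' : r ≫ f = h') (hr : q ≫ t = r) :
    uMap M f t e ≫ uMap M h q e' = uMap M f r e'' := by
  subst hr
  subst e
  subst e'
  have key : vMap M t rfl ≫ (Scheme.Modules.pushforward t).map (vMap M q rfl) ≫
      (Scheme.Modules.pushforwardComp q t).hom.app _ = vMap M (q ≫ t) e'' := by
    refine ((Scheme.Modules.pullbackPushforwardAdjunction f).homEquiv _ _).injective ?_
    rw [Adjunction.homEquiv_unit, Adjunction.homEquiv_unit]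
    ext W s
    show (vMap M q rfl).app (t ⁻¹ᵁ f ⁻¹ᵁ W) ((vMap M t rfl).app (f ⁻¹ᵁ W)
      (((Scheme.Modules.pullbackPushforwardAdjunction f).unit.app M).app W s)) =
      (vMap M (q ≫ t) e'').app (f ⁻¹ᵁ W)
        (((Scheme.Modules.pullbackPushforwardAdjunction f).unit.app M).app W s)
    have h0 : pullMap f M (le_refl (f ⁻¹ᵁ W)) s =
        ((Scheme.Modules.pullbackPushforwardAdjunction f).unit.app M).app W s := restr_self _ le_rfl _
    rw [← h0, vMap_pullMap, vMap_pullMap, vMap_pullMap]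
    rfl
  ext W m
  have hm := ConcreteCategory.congr_hom
    (congrArg (fun φ : (Scheme.Modules.pullback f).obj M ⟶ _ => φ.app (f ⁻¹ᵁ W)) key) m
  have hl : ∀ y : Γ((Scheme.Modules.pullback f).obj M, f ⁻¹ᵁ W),
      (uMap M f t rfl).app W y = (vMap M t rfl).app (f ⁻¹ᵁ W) y := fun y => restr_self _ le_rfl _
  have hl' : ∀ y : Γ((Scheme.Modules.pullback (t ≫ f)).obj M, t ⁻¹ᵁ f ⁻¹ᵁ W),
      (uMap M (t ≫ f) q rfl).app W y = (vMap M q rfl).app (t ⁻¹ᵁ f ⁻¹ᵁ W) y := fun y => restr_self _ le_rfl _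
  show (uMap M (t ≫ f) q rfl).app W ((uMap M f t rfl).app W m) = _
  rw [hl m, hl' _]
  refine hm.trans ?_
  show (vMap M (q ≫ t) e'').app (f ⁻¹ᵁ W) m =
    ((Scheme.Modules.pullback (q ≫ t ≫ f)).obj M).presheaf.map _ ((vMap M (q ≫ t) e'').app (f ⁻¹ᵁ W) m)
  exact (restr_self _ le_rfl _).symm

theorem uMap_pullMap {W : S.Opens} (s : Γ(M, W)) :
    (uMap M f t e).app W (pullMap f M (le_refl (f ⁻¹ᵁ W)) s) = pullMap h M (le_refl (h ⁻¹ᵁ W)) s := by
  have hu := ConcreteCategory.congr_hom (congrArg (fun φ : M ⟶ _ => φ.app W) (unit_uMap M f t e)) s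
  rw [show pullMap f M (le_refl (f ⁻¹ᵁ W)) s =
      ((Scheme.Modules.pullbackPushforwardAdjunction f).unit.app M).app W s from restr_self _ le_rfl _,
    show pullMap h M (le_refl (h ⁻¹ᵁ W)) s =
      ((Scheme.Modules.pullbackPushforwardAdjunction h).unit.app M).app W s from restr_self _ le_rfl _]
  exact hu

theorem uMap_smul_up {W : S.Opens} (a : Γ(X, f ⁻¹ᵁ W)) (y : Γ((Scheme.Modules.pullback f).obj M, f ⁻¹ᵁ W)) :
    (uMap M f t e).app W (show Γ((Scheme.Modules.pushforward f).obj ((Scheme.Modules.pullback f).obj M), W) from a • y) =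
      (show Γ((Scheme.Modules.pushforward h).obj ((Scheme.Modules.pullback h).obj M), W) from
        t.appLE (f ⁻¹ᵁ W) (h ⁻¹ᵁ W) (by subst e; exact le_rfl) a •
          (show Γ((Scheme.Modules.pullback h).obj M, h ⁻¹ᵁ W) from (uMap M f t e).app W y)) := by
  subst e
  have hl : ∀ y : Γ((Scheme.Modules.pullback f).obj M, f ⁻¹ᵁ W),
      (uMap M f t rfl).app W y = (vMap M t rfl).app (f ⁻¹ᵁ W) y := fun y => restr_self _ le_rfl _
  rw [hl (a • y), hl y]
  refine (Scheme.Modules.Hom.app_smul (vMap M t rfl) a y).trans ?_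
  exact congrArg (fun z : Γ(T, t ⁻¹ᵁ f ⁻¹ᵁ W) => z • (show Γ((Scheme.Modules.pullback (t ≫ f)).obj M, t ⁻¹ᵁ f ⁻¹ᵁ W)
    from (vMap M t rfl).app (f ⁻¹ᵁ W) y)) (congrArg (fun φ => φ.hom a) (Scheme.Hom.app_eq_appLE t))

end uMap

variable {I : Type u} [SmallCategory I] [IsCofiltered I] (D : I ⥤ Scheme.{u}) (c : Cone D) (hc : IsLimit c)
  [hD : ∀ {i j : I} (f : i ⟶ j), IsAffineHom (D.map f)] (i₀ : I) (G : (D.obj i₀).Modules)

omit [IsCofiltered I] hD in
theorem map_left {j k : Over i₀} (f : k ⟶ j) : D.map f.left ≫ D.map j.hom = D.map k.hom := by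
  rw [← D.map_comp, Over.w]

/-- The inverse image on a stage, read on the base stage. -/
abbrev P (j : Over i₀) : (D.obj i₀).Modules :=
  (Scheme.Modules.pushforward (D.map j.hom)).obj ((Scheme.Modules.pullback (D.map j.hom)).obj G)

/-- The inverse image on the limit, read on the base stage. -/
abbrev Q : (D.obj i₀).Modules :=
  (Scheme.Modules.pushforward (pr c i₀)).obj ((Scheme.Modules.pullback (pr c i₀)).obj G)

/-- The transition maps. -/
def tr {j k : Over i₀} (f : k ⟶ j) : P D i₀ G j ⟶ P D i₀ G k :=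
  uMap G (D.map j.hom) (D.map f.left) (map_left D i₀ f)

/-- The maps to the limit. -/
def ρ (j : Over i₀) : P D i₀ G j ⟶ Q D c i₀ G :=
  uMap G (D.map j.hom) (pr c j.left) (pr_w c j.hom)

omit [IsCofiltered I] hD in
theorem tr_ρ {j k : Over i₀} (f : k ⟶ j) : tr D i₀ G f ≫ ρ D c i₀ G k = ρ D c i₀ G j :=
  uMap_comp G _ _ _ _ _ _ (pr_w c f.left)

omit [IsCofiltered I] hD in
theorem tr_comp {j k l : Over i₀} (f : k ⟶ j) (g : l ⟶ k) :
    tr D i₀ G f ≫ tr D i₀ G g = tr D i₀ G (g ≫ f) :=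
  uMap_comp G _ _ _ _ _ _ (by rw [← D.map_comp]; rfl)

omit [IsCofiltered I] hD in
theorem tr_ρ_app {j k : Over i₀} (f : k ⟶ j) (W : (D.obj i₀).Opens) (y : Γ(P D i₀ G j, W)) :
    (ρ D c i₀ G k).app W ((tr D i₀ G f).app W y) = (ρ D c i₀ G j).app W y :=
  congrArg (fun φ : P D i₀ G j ⟶ _ => φ.app W y) (tr_ρ D c i₀ G f)

omit [IsCofiltered I] hD in
theorem tr_comp_app {j k l : Over i₀} (f : k ⟶ j) (g : l ⟶ k) (W : (D.obj i₀).Opens) (y : Γ(P D i₀ G j, W)) :
    (tr D i₀ G g).app W ((tr D i₀ G f).app W y) = (tr D i₀ G (g ≫ f)).app W y :=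
  congrArg (fun φ : P D i₀ G j ⟶ _ => φ.app W y) (tr_comp D i₀ G f g)

variable {W : (D.obj i₀).Opens} (hW : IsAffineOpen W)

omit [IsCofiltered I] hD in
theorem preimage_W {j k : Over i₀} (f : k ⟶ j) (W : (D.obj i₀).Opens) :
    D.map k.hom ⁻¹ᵁ W ≤ D.map f.left ⁻¹ᵁ (D.map j.hom ⁻¹ᵁ W) := by
  rw [← Scheme.Hom.comp_preimage, map_left]

omit [IsCofiltered I] hD in
theorem preimage_π (j : Over i₀) (W : (D.obj i₀).Opens) :
    pr c i₀ ⁻¹ᵁ W ≤ pr c j.left ⁻¹ᵁ (D.map j.hom ⁻¹ᵁ W) := by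
  rw [← Scheme.Hom.comp_preimage, pr_w]

/-- The functions on the preimage in the limit, over those on `W`. -/
@[reducible] def algB (W : (D.obj i₀).Opens) : Algebra Γ(D.obj i₀, W) Γ(c.pt, pr c i₀ ⁻¹ᵁ W) :=
  ((pr c i₀).appLE W (pr c i₀ ⁻¹ᵁ W) le_rfl).hom.toAlgebra

/-- The functions on the preimage in a stage, over those on `W`. -/
@[reducible] def algR (W : (D.obj i₀).Opens) (j : Over i₀) :
    Algebra Γ(D.obj i₀, W) Γ(D.obj j.left, D.map j.hom ⁻¹ᵁ W) :=
  ((D.map j.hom).appLE W (D.map j.hom ⁻¹ᵁ W) le_rfl).hom.toAlgebra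

/-- The system of functions on the preimages of an affine open. -/
def funSys : letI := algB D c i₀ W
    AlgSystem Γ(D.obj i₀, W) Γ(c.pt, pr c i₀ ⁻¹ᵁ W) :=
  letI := algB D c i₀ W
  letI := algR D i₀ W
  { J := Over i₀
    R := fun j => Γ(D.obj j.left, D.map j.hom ⁻¹ᵁ W)
    alg := algR D i₀ W
    ρ := fun j =>
      { toRingHom := ((pr c j.left).appLE _ _ (preimage_π D c i₀ j W)).hom
        commutes' := fun a => by
          show ((D.map j.hom).appLE W _ le_rfl ≫ (pr c j.left).appLE _ _ (preimage_π D c i₀ j W)) a =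
            (pr c i₀).appLE W _ le_rfl a
          rw [Scheme.Hom.appLE_comp_appLE]
          simp only [pr_w] }
    Hom := fun j k => k ⟶ j
    τ := fun {j k} f =>
      { toRingHom := ((D.map f.left).appLE _ _ (preimage_W D i₀ f W)).hom
        commutes' := fun a => by
          show ((D.map j.hom).appLE W _ le_rfl ≫ (D.map f.left).appLE _ _ (preimage_W D i₀ f W)) a =
            (D.map k.hom).appLE W _ le_rfl a
          rw [Scheme.Hom.appLE_comp_appLE]
          simp only [map_left] }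
    comm := fun {j k} f => AlgHom.ext fun a => by
      show ((D.map f.left).appLE _ _ (preimage_W D i₀ f W) ≫
        (pr c k.left).appLE _ _ (preimage_π D c i₀ k W)) a = (pr c j.left).appLE _ _ (preimage_π D c i₀ j W) a
      rw [Scheme.Hom.appLE_comp_appLE]
      simp only [pr_w]
    comp := fun {j k l} f g => ⟨g ≫ f, AlgHom.ext fun a => by
      show (D.map (g ≫ f).left).appLE _ _ (preimage_W D i₀ (g ≫ f) W) a =
        ((D.map f.left).appLE _ _ (preimage_W D i₀ f W) ≫ (D.map g.left).appLE _ _ (preimage_W D i₀ g W)) a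
      rw [Scheme.Hom.appLE_comp_appLE]
      simp only [Over.comp_left, D.map_comp]⟩
    surj := fun j b => by
      have hk : ∀ k : Over i₀, IsAffine ((opensDiagram D i₀ W).obj k) := fun k => hW.preimage (D.map k.hom)
      obtain ⟨k, t, ht⟩ := exists_appTop_π_eq_of_isAffine_of_isLimit _ _ (isLimitOpensCone D c hc i₀ W)
        (((pr c i₀ ⁻¹ᵁ W).topIso).inv b)
      obtain ⟨l, p, q, -⟩ := IsCofilteredOrEmpty.cone_objs j k
      refine ⟨l, p, (D.map q.left).appLE _ _ (preimage_W D i₀ q W) (((D.map k.hom ⁻¹ᵁ W).topIso).hom t), ?_⟩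
      have h1 := congrArg ((pr c i₀ ⁻¹ᵁ W).topIso).hom ht
      rw [Iso.inv_hom_id_apply] at h1
      rw [← h1]
      show ((D.map k.hom ⁻¹ᵁ W).topIso.hom ≫ (D.map q.left).appLE _ _ (preimage_W D i₀ q W) ≫
        (pr c l.left).appLE _ _ (preimage_π D c i₀ l W)) t =
          (((opensCone D c i₀ W).π.app k).appTop ≫ (pr c i₀ ⁻¹ᵁ W).topIso.hom) t
      congr 2
      rw [show (D.map k.hom ⁻¹ᵁ W).topIso.hom ≫ (D.map q.left).appLE _ _ (preimage_W D i₀ q W) ≫
          (pr c l.left).appLE _ _ (preimage_π D c i₀ l W) =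
          (D.map k.hom ⁻¹ᵁ W).topIso.hom ≫ (pr c k.left).appLE _ _ (preimage_π D c i₀ k W) by
        rw [Scheme.Hom.appLE_comp_appLE]; simp only [pr_w]]
      simp [opensCone, pr, Scheme.Hom.app_eq_appLE, Scheme.Hom.resLE_appLE, Scheme.Opens.topIso]
    inj := fun j a ha => by
      obtain ⟨k, f, hf⟩ := exists_app_map_eq_zero_of_isLimit D c hc
        (hW.preimage (D.map j.hom)).isCompact a (by
          have h' : pr c j.left ⁻¹ᵁ (D.map j.hom ⁻¹ᵁ W) ≤ pr c i₀ ⁻¹ᵁ W := by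
            rw [← Scheme.Hom.comp_preimage, pr_w]
          have h2 := congrArg (c.pt.presheaf.map (homOfLE h').op) ha
          rw [map_zero] at h2
          refine Eq.trans ?_ h2
          show _ = ((pr c j.left).appLE _ _ (preimage_π D c i₀ j W) ≫ c.pt.presheaf.map _) a
          rw [Scheme.Hom.appLE_map, ← Scheme.Hom.app_eq_appLE]
          rfl)
      let g : Over.mk (f ≫ j.hom) ⟶ j := Over.homMk f rfl
      refine ⟨Over.mk (f ≫ j.hom), g, ?_⟩
      show (D.map f).appLE _ (D.map (f ≫ j.hom) ⁻¹ᵁ W) (preimage_W D i₀ g W) a = 0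
      rw [Scheme.Hom.appLE, CommRingCat.comp_apply, hf, map_zero] }

variable [Coh.IsQCoh G]

/-- Sections on a stage as a base change. -/
theorem exists_stageEquiv (j : Over i₀) (hW : IsAffineOpen W) :
    letI := algR D i₀ W j
    ∃ E : Γ(D.obj j.left, D.map j.hom ⁻¹ᵁ W) ⊗[Γ(D.obj i₀, W)] Γ(G, W) ≃+ Γ(P D i₀ G j, W),
      ∀ x m, E (x ⊗ₜ m) = (show Γ(P D i₀ G j, W) from
        x • pullMap (D.map j.hom) G (le_refl (D.map j.hom ⁻¹ᵁ W)) m) := by
  letI := algR D i₀ W j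
  letI := Module.compHom Γ((Scheme.Modules.pullback (D.map j.hom)).obj G, D.map j.hom ⁻¹ᵁ W)
    ((D.map j.hom).appLE W (D.map j.hom ⁻¹ᵁ W) le_rfl).hom
  haveI : IsScalarTower Γ(D.obj i₀, W) Γ(D.obj j.left, D.map j.hom ⁻¹ᵁ W)
      Γ((Scheme.Modules.pullback (D.map j.hom)).obj G, D.map j.hom ⁻¹ᵁ W) := .of_algebraMap_smul fun _ _ => rfl
  have hbc := isBaseChange_pullMapL (D.map j.hom) G hW (hW.preimage (D.map j.hom))
    (le_refl (D.map j.hom ⁻¹ᵁ W))
  exact ⟨hbc.equiv.toAddEquiv, fun x m => hbc.equiv_tmul x m⟩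

include hc in
theorem exists_limitEquiv (hW : IsAffineOpen W) :
    letI := algB D c i₀ W
    ∃ E : Γ(c.pt, pr c i₀ ⁻¹ᵁ W) ⊗[Γ(D.obj i₀, W)] Γ(G, W) ≃+ Γ(Q D c i₀ G, W),
      ∀ x m, E (x ⊗ₜ m) = (show Γ(Q D c i₀ G, W) from
        x • pullMap (pr c i₀) G (le_refl (pr c i₀ ⁻¹ᵁ W)) m) := by
  letI := algB D c i₀ W
  haveI : IsAffineHom (pr c i₀) := isAffineHom_π_app D c hc i₀
  letI := Module.compHom Γ((Scheme.Modules.pullback (pr c i₀)).obj G, pr c i₀ ⁻¹ᵁ W)
    ((pr c i₀).appLE W (pr c i₀ ⁻¹ᵁ W) le_rfl).hom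
  haveI : IsScalarTower Γ(D.obj i₀, W) Γ(c.pt, pr c i₀ ⁻¹ᵁ W)
      Γ((Scheme.Modules.pullback (pr c i₀)).obj G, pr c i₀ ⁻¹ᵁ W) := .of_algebraMap_smul fun _ _ => rfl
  have hbc := isBaseChange_pullMapL (pr c i₀) G hW (hW.preimage (pr c i₀))
    (le_refl (pr c i₀ ⁻¹ᵁ W))
  exact ⟨hbc.equiv.toAddEquiv, fun x m => hbc.equiv_tmul x m⟩

include hc in
/-- A section on the limit over an affine open comes from a stage. -/
theorem exists_sec_rep (hW : IsAffineOpen W) (j₀ : Over i₀) (y : Γ(Q D c i₀ G, W)) :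
    ∃ (j : Over i₀) (_ : j ⟶ j₀) (x : Γ(P D i₀ G j, W)), (ρ D c i₀ G j).app W x = y := by
  letI := algB D c i₀ W
  letI := algR D i₀ W
  let S := funSys D c hc i₀ hW
  obtain ⟨EB, hEB⟩ := exists_limitEquiv D c hc i₀ G hW
  obtain ⟨j, f, z, hz⟩ := S.exists_lift (M := Γ(G, W)) j₀ (EB.symm y)
  obtain ⟨Ej, hEj⟩ := exists_stageEquiv D i₀ G j hW
  refine ⟨j, f, Ej z, ?_⟩
  have key : ∀ z, (ρ D c i₀ G j).app W (Ej z) = EB ((S.ρ j).toLinearMap.rTensor Γ(G, W) z) := fun z => by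
    induction z using TensorProduct.induction_on with
    | zero => exact (by simp only [map_zero])
    | add x x' hx hx' => simp only [map_add, hx, hx']
    | tmul a m =>
      rw [hEj, LinearMap.rTensor_tmul, hEB]
      refine (uMap_smul_up G _ _ a _).trans ?_
      exact congrArg _ (uMap_pullMap G _ (pr_w c j.hom) m)
  rw [key, hz, AddEquiv.apply_symm_apply]

include hc in
/-- A section on a stage vanishing on the limit vanishes later. -/
theorem exists_sec_zero (hW : IsAffineOpen W) (j : Over i₀) (x : Γ(P D i₀ G j, W))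
    (hx : (ρ D c i₀ G j).app W x = 0) : ∃ (k : Over i₀) (g : k ⟶ j), (tr D i₀ G g).app W x = 0 := by
  letI := algB D c i₀ W
  letI := algR D i₀ W
  let S := funSys D c hc i₀ hW
  obtain ⟨EB, hEB⟩ := exists_limitEquiv D c hc i₀ G hW
  obtain ⟨Ej, hEj⟩ := exists_stageEquiv D i₀ G j hW
  have key : ∀ z, (ρ D c i₀ G j).app W (Ej z) = EB ((S.ρ j).toLinearMap.rTensor Γ(G, W) z) := fun z => by
    induction z using TensorProduct.induction_on with
    | zero => exact (by simp only [map_zero])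
    | add x x' hx hx' => simp only [map_add, hx, hx']
    | tmul a m =>
      rw [hEj, LinearMap.rTensor_tmul, hEB]
      refine (uMap_smul_up G _ _ a _).trans ?_
      exact congrArg _ (uMap_pullMap G _ (pr_w c j.hom) m)
  obtain ⟨k, g, hg⟩ := S.exists_zero (M := Γ(G, W)) j (Ej.symm x) (EB.injective (by
    rw [← key, AddEquiv.apply_symm_apply, hx, map_zero]))
  obtain ⟨Ek, hEk⟩ := exists_stageEquiv D i₀ G k hW
  refine ⟨k, g, ?_⟩
  have keyg : ∀ z, (tr D i₀ G g).app W (Ej z) = Ek ((S.τ g).toLinearMap.rTensor Γ(G, W) z) := fun z => by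
    induction z using TensorProduct.induction_on with
    | zero => exact (by simp only [map_zero])
    | add x x' hx hx' => simp only [map_add, hx, hx']
    | tmul a m =>
      rw [hEj, LinearMap.rTensor_tmul, hEk]
      refine (uMap_smul_up G _ _ a _).trans ?_
      exact congrArg _ (uMap_pullMap G _ (map_left D i₀ g) m)
  rw [← Ej.apply_symm_apply x, keyg, hg, map_zero]

end Groth.Agent.LimHom
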